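import Mathlib.RingTheory.NoetherNormalization
import Mathlib.RingTheory.Valuation.Discrete.Basic
import Mathlib.RingTheory.Valuation.ExtendToLocalization
import Mathlib.RingTheory.DedekindDomain.AdicValuation
import Mathlib.RingTheory.DedekindDomain.IntegralClosure
import Mathlib.RingTheory.DedekindDomain.Ideal.Lemmas
import Mathlib.RingTheory.Localization.Finiteness
import Mathlib.RingTheory.IntegralClosure.IntegralRestrict
import Mathlib.Algebra.MvPolynomial.NoZeroDivisors
import Mathlib.RingTheory.Polynomial.UniqueFactorization
import Mathlib.FieldTheory.Minpoly.IsIntegrallyClosed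
import Mathlib.FieldTheory.PurelyInseparable.Basic
import Mathlib.FieldTheory.SeparableClosure

/-! Units of a finitely generated domain over a field modulo the constants: the degree valuation. -/

namespace Groth.Agent.UnitsFG

open WithZero MvPolynomial
open scoped nonZeroDivisors

variable (k : Type*) [Field k] (s : ℕ)

/-- The degree valuation on polynomials. -/
noncomputable def degVal : Valuation (MvPolynomial (Fin s) k) (WithZero (Multiplicative ℤ)) where
  toFun p := by classical exact if p = 0 then 0 else exp (p.totalDegree : ℤ)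
  map_zero' := by simp
  map_one' := by simp
  map_mul' p q := by
    rcases eq_or_ne p 0 with rfl | hp
    · simp
    rcases eq_or_ne q 0 with rfl | hq
    · simp
    simp [hp, hq, totalDegree_mul_of_isDomain hp hq, exp_add]
  map_add_le_max' p q := by
    rcases eq_or_ne p 0 with rfl | hp
    · rw [zero_add]; exact le_max_right _ _
    rcases eq_or_ne q 0 with rfl | hq
    · rw [add_zero]; exact le_max_left _ _
    rcases eq_or_ne (p + q) 0 with h | h
    · simp [h]
    simp only [hp, hq, h, if_false]
    rcases le_total p.totalDegree q.totalDegree with hle | hle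
    · exact le_max_of_le_right (exp_le_exp.mpr (by
        exact_mod_cast (totalDegree_add p q).trans (max_le hle le_rfl)))
    · exact le_max_of_le_left (exp_le_exp.mpr (by
        exact_mod_cast (totalDegree_add p q).trans (max_le le_rfl hle)))

theorem degVal_apply {p : MvPolynomial (Fin s) k} (hp : p ≠ 0) : degVal k s p = exp (p.totalDegree : ℤ) :=
  if_neg hp

theorem degVal_le_one {p : MvPolynomial (Fin s) k} (h : degVal k s p ≤ 1) : ∃ c, C c = p := by
  rcases eq_or_ne p 0 with rfl | hp
  · exact ⟨0, map_zero _⟩
  rw [degVal_apply k s hp, ← exp_zero, exp_le_exp] at h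
  exact ⟨p.coeff 0, (totalDegree_eq_zero_iff_eq_C.mp (by omega)).symm⟩

/-- The degree valuation on rational functions. -/
noncomputable def fracVal : Valuation (FractionRing (MvPolynomial (Fin s) k)) (WithZero (Multiplicative ℤ)) :=
  (degVal k s).extendToLocalization (S := (MvPolynomial (Fin s) k)⁰) (fun a ha h => by
    have := nonZeroDivisors.ne_zero ha
    have h : degVal k s a = 0 := h
    rw [degVal_apply k s this] at h
    exact exp_ne_zero h) (FractionRing (MvPolynomial (Fin s) k))

theorem fracVal_algebraMap (p : MvPolynomial (Fin s) k) :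
    fracVal k s (algebraMap _ (FractionRing (MvPolynomial (Fin s) k)) p) = degVal k s p :=
  Valuation.extendToLocalization_apply_map_apply _ _ _ p

/-- For a finitely generated domain there are finitely many integer valued homomorphisms on the units
whose common kernel is integral over the field. -/
theorem exists_hom (B : Type*) [CommRing B] [IsDomain B] [Algebra k B] [Algebra.FiniteType k B] :
    ∃ (ι : Type) (_ : Finite ι) (Φ : Bˣ →* (ι → Multiplicative ℤ)),
      ∀ u, Φ u = 1 → IsIntegral k (u : B) := by
  classical
  obtain ⟨s, g, hinj, hfin⟩ := exists_finite_inj_algHom_of_fg k B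
  let := g.toRingHom.toAlgebra
  have : IsScalarTower k (MvPolynomial (Fin s) k) B := IsScalarTower.of_algebraMap_eq fun c => (g.commutes c).symm
  have : Module.Finite (MvPolynomial (Fin s) k) B := hfin
  rcases Nat.eq_zero_or_pos s with rfl | hs
  · have : Module.Finite k (MvPolynomial (Fin 0) k) :=
      Module.Finite.equiv (MvPolynomial.isEmptyAlgEquiv k (Fin 0)).symm.toLinearEquiv
    have : Module.Finite k B := Module.Finite.trans (MvPolynomial (Fin 0) k) B
    exact ⟨Fin 0, inferInstance, 1, fun u _ => IsIntegral.of_finite k (u : B)⟩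
  set A := MvPolynomial (Fin s) k with hA
  let F := FractionRing A
  let L := FractionRing B
  have : Module.IsTorsionFree A B := Module.isTorsionFree_iff_algebraMap_injective.mpr hinj
  let : Algebra F L := FractionRing.liftAlgebra A L
  have : IsScalarTower A F L := FractionRing.isScalarTower_liftAlgebra A L
  have : IsLocalization (Algebra.algebraMapSubmonoid B A⁰) L :=
    (IsLocalization.iff_of_le_of_exists_dvd _ B⁰
      (map_le_nonZeroDivisors_of_injective _ hinj le_rfl) fun b hb => by
      obtain ⟨r, hr, hdvd⟩ := (IsIntegral.of_finite A b).isAlgebraic.exists_nonzero_dvd hb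
      exact ⟨_, ⟨r, mem_nonZeroDivisors_of_ne_zero hr, rfl⟩, hdvd⟩).mpr inferInstance
  have : FiniteDimensional F L := .of_isLocalization A B A⁰
  let v := fracVal k s
  have hsurj : ∃ x : F, v x = exp (1 : ℤ) := by
    refine ⟨algebraMap A F (X ⟨0, hs⟩), ?_⟩
    show fracVal k s _ = _
    rw [fracVal_algebraMap, degVal_apply k s (X_ne_zero _), totalDegree_X]
    rfl
  have : Nontrivial (MonoidWithZeroHom.valueGroup (MonoidWithZeroHom.ofClass v)) := by
    obtain ⟨x, hx⟩ := hsurj
    refine ⟨⟨1, ⟨Units.mk0 (exp (1 : ℤ)) exp_ne_zero, MonoidWithZeroHom.mem_valueGroup _ ⟨x, hx⟩⟩, ?_⟩⟩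
    intro h
    have h2 := congrArg (fun t : MonoidWithZeroHom.valueGroup (MonoidWithZeroHom.ofClass v) =>
      ((t : (WithZero (Multiplicative ℤ))ˣ) : WithZero (Multiplicative ℤ))) h
    simp only [OneMemClass.coe_one, Units.val_one, Units.val_mk0] at h2
    rw [← exp_zero, exp_inj] at h2
    omega
  let O := v.valuationSubring
  have : IsDiscreteValuationRing O := inferInstance
  let Ks := separableClosure F L
  have : IsPurelyInseparable Ks L := separableClosure.isPurelyInseparable F L
  let C := integralClosure O Ks
  have : IsDedekindDomain C := integralClosure.isDedekindDomain O F Ks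
  have : Module.IsTorsionFree O C := Module.isTorsionFree_iff_algebraMap_injective.mpr (by
    intro a b h
    have := congrArg (fun c : C => (c : Ks)) h
    exact Subtype.ext ((algebraMap F Ks).injective this))
  have : IsFractionRing C Ks := integralClosure.isFractionRing_of_finite_extension F Ks
  have hfinP : Finite (IsDedekindDomain.HeightOneSpectrum C) := by
    have hmem : ∀ P : IsDedekindDomain.HeightOneSpectrum C,
        P.asIdeal ∈ (IsLocalRing.maximalIdeal O).primesOver C := fun P => by
      refine ⟨P.isPrime, ⟨?_⟩⟩
      have : P.asIdeal.IsMaximal := P.isMaximal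
      exact (IsLocalRing.eq_maximalIdeal (Ideal.IsMaximal.under O P.asIdeal)).symm
    have := IsDedekindDomain.primesOver_finite (IsLocalRing.maximalIdeal O) (B := C) |>.to_subtype
    exact Finite.of_injective
      (fun P => (⟨P.asIdeal, hmem P⟩ : (IsLocalRing.maximalIdeal O).primesOver C))
      fun P Q h => IsDedekindDomain.HeightOneSpectrum.ext (Subtype.ext_iff.mp h)
  -- a common exponent making every element separable
  let q := ringExpChar Ks
  obtain ⟨N, hN⟩ : ∃ N : ℕ, ∀ x : L, x ^ q ^ N ∈ (algebraMap Ks L).range := by
    have : ExpChar Ks q := ringExpChar.expChar Ks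
    let b := Module.finBasis Ks L
    choose n hn using fun i => IsPurelyInseparable.pow_mem Ks q (b i)
    refine ⟨Finset.univ.sup n, fun x => ?_⟩
    have : ExpChar L q := expChar_of_injective_ringHom (algebraMap Ks L).injective q
    rw [← b.sum_repr x, sum_pow_char_pow]
    refine Subring.sum_mem _ fun i _ => ?_
    rw [Algebra.smul_def, mul_pow, ← map_pow]
    refine Subring.mul_mem _ ⟨_, rfl⟩ ?_
    obtain ⟨r, hr⟩ := Nat.exists_eq_add_of_le (Finset.le_sup (f := n) (Finset.mem_univ i))
    rw [hr, pow_add, pow_mul]
    exact Subring.pow_mem _ (hn i) _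
  have hq : 0 < q ^ N := pow_pos (expChar_pos Ks q) N
  let qpow : Bˣ →* Ksˣ :=
    { toFun := fun u => Units.mk0 (hN (algebraMap B L (u : B))).choose (fun h => by
        have := (hN (algebraMap B L (u : B))).choose_spec
        rw [h, map_zero, eq_comm, pow_eq_zero_iff hq.ne', map_eq_zero_iff _ (IsFractionRing.injective B L)] at this
        exact u.ne_zero this)
      map_one' := Units.ext ((algebraMap Ks L).injective (by
        rw [Units.val_mk0, (hN _).choose_spec]; simp))
      map_mul' := fun a b => Units.ext ((algebraMap Ks L).injective (by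
        refine (hN _).choose_spec.trans ?_
        refine Eq.trans ?_ (map_mul (algebraMap Ks L) _ _).symm
        refine Eq.trans ?_ (congrArg₂ (· * ·) (hN _).choose_spec.symm (hN _).choose_spec.symm)
        rw [Units.val_mul, map_mul, mul_pow])) }
  have hqpow : ∀ u : Bˣ, algebraMap Ks L (qpow u : Ks) = algebraMap B L (u : B) ^ q ^ N := fun u =>
    (hN (algebraMap B L (u : B))).choose_spec
  obtain ⟨m, ⟨e⟩⟩ := Finite.exists_equiv_fin (IsDedekindDomain.HeightOneSpectrum C)
  let Φ : Bˣ →* (Fin m → Multiplicative ℤ) :=
    { toFun := fun u i => WithZero.unzero (((Valuation.ne_zero_iff ((e.symm i).valuation Ks)).mpr (qpow u).ne_zero))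
      map_one' := by
        funext i
        rw [← WithZero.coe_inj, WithZero.coe_unzero]
        simp
      map_mul' := fun a b => by
        funext i
        rw [← WithZero.coe_inj, WithZero.coe_unzero, Pi.mul_apply, WithZero.coe_mul, WithZero.coe_unzero,
          WithZero.coe_unzero, map_mul, Units.val_mul, map_mul] }
  refine ⟨Fin m, inferInstance, Φ, fun u hu => ?_⟩
  have hval : ∀ P : IsDedekindDomain.HeightOneSpectrum C, P.valuation Ks (qpow u : Ks) = 1 := fun P => by
    have h := congrArg (fun t : Multiplicative ℤ => (t : WithZero (Multiplicative ℤ))) (congr_fun hu (e P))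
    simp only [Φ, MonoidHom.coe_mk, OneHom.coe_mk, WithZero.coe_unzero, Pi.one_apply, WithZero.coe_one,
      Equiv.symm_apply_apply] at h
    exact h
  obtain ⟨c, hc⟩ := IsDedekindDomain.HeightOneSpectrum.mem_integers_of_valuation_le_one (R := C) Ks
    (qpow u : Ks) fun P => (hval P).le
  have hintO : IsIntegral O (qpow u : Ks) := hc ▸ c.2
  have hintA : IsIntegral A (qpow u : Ks) := by
    refine (isIntegral_algHom_iff ((IsScalarTower.toAlgHom F Ks L).restrictScalars A)
      (algebraMap Ks L).injective).mp ?_
    show IsIntegral A (algebraMap Ks L (qpow u : Ks))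
    rw [hqpow]
    exact ((IsIntegral.of_finite A (u : B)).map (IsScalarTower.toAlgHom A B L)).pow _
  have h1 : minpoly F (qpow u : Ks) = (minpoly A (qpow u : Ks)).map (algebraMap A F) :=
    minpoly.isIntegrallyClosed_eq_field_fractions' F hintA
  have h2 : minpoly F (qpow u : Ks) = (minpoly O (qpow u : Ks)).map (algebraMap O F) :=
    minpoly.isIntegrallyClosed_eq_field_fractions' F hintO
  have hcoef : ∀ n, ∃ c : k, algebraMap k F c = (minpoly F (qpow u : Ks)).coeff n := fun n => by
    have hv : v ((minpoly F (qpow u : Ks)).coeff n) ≤ 1 := by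
      rw [h2, Polynomial.coeff_map]
      exact ((minpoly O (qpow u : Ks)).coeff n).2
    rw [h1, Polynomial.coeff_map] at hv ⊢
    rw [show v = fracVal k s from rfl, fracVal_algebraMap] at hv
    obtain ⟨c, hc⟩ := degVal_le_one k s hv
    exact ⟨c, by rw [← hc, IsScalarTower.algebraMap_apply k A F]; rfl⟩
  have hint : IsIntegral k (algebraMap Ks L (qpow u : Ks)) := by
    have hroot := congrArg (algebraMap Ks L) (minpoly.aeval F (qpow u : Ks))
    rw [map_zero, ← Polynomial.aeval_algebraMap_apply] at hroot
    have hmon := minpoly.monic (IsIntegral.of_finite F (qpow u : Ks))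
    have hlift : minpoly F (qpow u : Ks) ∈ Polynomial.lifts (algebraMap k F) :=
      (Polynomial.lifts_iff_coeff_lifts _).mpr fun n => hcoef n
    obtain ⟨p, hp, -, hpm⟩ := Polynomial.lifts_and_degree_eq_and_monic hlift hmon
    refine ⟨p, hpm, ?_⟩
    rw [← hp, Polynomial.aeval_map_algebraMap] at hroot
    exact hroot
  rw [hqpow] at hint
  exact (isIntegral_algHom_iff (IsScalarTower.toAlgHom k B L) (IsFractionRing.injective B L)).mp
    (hint.of_pow hq)

end Groth.Agent.UnitsFG
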